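import Groth.Prelude.Def_ProEtW
import Mathlib

/-!
Spectra in which all primes are maximal are profinite; rings over such rings with incomparable fibres.
-/

set_option autoImplicit false
set_option linter.style.haveILetI false

universe u

namespace Groth.Agent.ProfinSpec

variable {A : Type u} [CommRing A]

/-- all primes maximal gives a profinite spectrum -/
theorem isProfinite_of_forall_isMaximal (h : ∀ p : PrimeSpectrum A, p.asIdeal.IsMaximal) :
    ProEtW.IsProfinite (PrimeSpectrum A) := by
  haveI : T2Space (PrimeSpectrum A) := ⟨fun x y hxy => by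
    obtain ⟨f, hfx, hfy⟩ : ∃ f ∈ x.asIdeal, f ∉ y.asIdeal := SetLike.not_le_iff_exists.mp fun hle =>
      hxy (PrimeSpectrum.ext ((h x).eq_of_le y.2.ne_top hle))
    obtain ⟨s, hs, n, hsn⟩ : ∃ s ∉ x.asIdeal, ∃ n : ℕ, s * f ^ n = 0 := by
      by_contra hne
      push Not at hne
      let M : Submonoid A := x.asIdeal.primeCompl ⊔ Submonoid.powers f
      have hdis : Disjoint ((⊥ : Ideal A) : Set A) (M : Set A) := by
        rw [Set.disjoint_left]
        intro a ha ha'
        obtain ⟨s, hs, t, ⟨n, rfl⟩, rfl⟩ := Submonoid.mem_sup.mp ha'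
        exact hne s hs n ha
      obtain ⟨p, hp, -, hpM⟩ := Ideal.exists_le_prime_disjoint _ M hdis
      have hle : p ≤ x.asIdeal := fun a ha => by
        by_contra hax
        exact Set.disjoint_left.mp hpM ha ((le_sup_left : x.asIdeal.primeCompl ≤ M) hax)
      have : p = x.asIdeal := (h ⟨p, hp⟩).eq_of_le x.2.ne_top hle
      exact Set.disjoint_left.mp hpM (this ▸ hfx)
        ((le_sup_right : Submonoid.powers f ≤ M) (Submonoid.mem_powers f))
    refine ⟨PrimeSpectrum.basicOpen s, PrimeSpectrum.basicOpen f, (PrimeSpectrum.basicOpen s).2,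
      (PrimeSpectrum.basicOpen f).2, hs, hfy, ?_⟩
    rw [Set.disjoint_left]
    intro z hzs hzf
    have : s * f ^ n ∈ z.asIdeal := hsn ▸ z.asIdeal.zero_mem
    rcases z.2.mem_or_mem this with h1 | h1
    · exact hzs h1
    · exact hzf (z.2.mem_of_pow_mem n h1)⟩
  exact ⟨inferInstance, inferInstance, inferInstance⟩

variable {B : Type u} [CommRing B] [Algebra A B] [T2Space (PrimeSpectrum A)]

theorem isMaximal_comap (q : PrimeSpectrum B) : (q.asIdeal.comap (algebraMap A B)).IsMaximal :=
  (PrimeSpectrum.isClosed_singleton_iff_isMaximal (PrimeSpectrum.comap (algebraMap A B) q)).mp isClosed_singleton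

/-- incomparable fibres over a profinite spectrum give a profinite spectrum -/
theorem isProfinite_of_incomparable
    (h : ∀ q q' : PrimeSpectrum B, q.asIdeal.comap (algebraMap A B) = q'.asIdeal.comap (algebraMap A B) →
      q.asIdeal ≤ q'.asIdeal → q = q') : ProEtW.IsProfinite (PrimeSpectrum B) := by
  refine isProfinite_of_forall_isMaximal fun q => ?_
  obtain ⟨M, hM, hle⟩ := q.asIdeal.exists_le_maximal q.2.ne_top
  have he := h q ⟨M, hM.isPrime⟩ ((isMaximal_comap (A := A) q).eq_of_le
    (isMaximal_comap (A := A) (⟨M, hM.isPrime⟩ : PrimeSpectrum B)).ne_top (Ideal.comap_mono hle)) hle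
  rw [show q.asIdeal = M from congrArg PrimeSpectrum.asIdeal he]
  exact hM

theorem isProfinite_of_algebraic (h : ProEtW.AlgebraicResidueExtensions A B) :
    ProEtW.IsProfinite (PrimeSpectrum B) := by
  refine isProfinite_of_forall_isMaximal fun q => ?_
  haveI := h q.asIdeal
  have hA : IsField (A ⧸ q.asIdeal.comap (algebraMap A B)) :=
    (Ideal.Quotient.maximal_ideal_iff_isField_quotient _).mp (isMaximal_comap q)
  letI := hA.toField
  haveI : Algebra.IsIntegral (A ⧸ q.asIdeal.comap (algebraMap A B)) (B ⧸ q.asIdeal) :=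
    Algebra.isAlgebraic_iff_isIntegral.mp inferInstance
  exact Ideal.Quotient.maximal_of_isField _
    (isField_of_isIntegral_of_isField' (R := A ⧸ q.asIdeal.comap (algebraMap A B)) hA)

omit [T2Space (PrimeSpectrum A)] in
/-- points specializing into `D(f) ∩ V(I)` -/
theorem exists_submonoid (f : A) (I : Ideal A) : ∃ S : Submonoid A,
    Set.range (PrimeSpectrum.comap (algebraMap A (Localization S))) =
      {x | ∃ z : PrimeSpectrum A, z ∈ (PrimeSpectrum.basicOpen f : Set (PrimeSpectrum A)) ∩ PrimeSpectrum.zeroLocus I ∧ x ⤳ z} := by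
  let Z := (PrimeSpectrum.basicOpen f : Set (PrimeSpectrum A)) ∩ PrimeSpectrum.zeroLocus I
  let S : Submonoid A :=
    { carrier := {a | ∀ z ∈ Z, a ∉ z.asIdeal}
      one_mem' := fun z _ => fun h1 => z.2.ne_top ((Ideal.eq_top_iff_one _).mpr h1)
      mul_mem' := fun ha hb z hz hab => (z.2.mem_or_mem hab).elim (ha z hz) (hb z hz) }
  refine ⟨S, ?_⟩
  rw [PrimeSpectrum.localization_comap_range (Localization S) S]
  ext x
  constructor
  · intro hx
    have hd : Disjoint ((x.asIdeal ⊔ I : Ideal A) : Set A) (Submonoid.powers f : Set A) := by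
      rw [Set.disjoint_left]
      rintro a ha ⟨n, rfl⟩
      obtain ⟨b, hb, i, hi, hbi⟩ := Submodule.mem_sup.mp ha
      refine Set.disjoint_left.mp hx (show b ∈ S from fun z hz hbz => hz.1 ?_) hb
      exact z.2.mem_of_pow_mem n (by rw [show f ^ n = b + i from hbi.symm]; exact z.asIdeal.add_mem hbz (hz.2 hi))
    obtain ⟨p, hp, hple, hpd⟩ := Ideal.exists_le_prime_disjoint _ _ hd
    exact ⟨⟨p, hp⟩, ⟨fun hfp => Set.disjoint_left.mp hpd hfp (Submonoid.mem_powers f), le_sup_right.trans hple⟩,
      (PrimeSpectrum.le_iff_specializes x ⟨p, hp⟩).mp (show x.asIdeal ≤ p from le_sup_left.trans hple)⟩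
  · rintro ⟨z, hz, hxz⟩
    exact Set.disjoint_left.mpr fun a ha hax => ha z hz ((PrimeSpectrum.le_iff_specializes x z).mpr hxz hax)

end Groth.Agent.ProfinSpec
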